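import Mathlib

/-!
# Counting multiplicities (helper5)
-/

set_option autoImplicit false

namespace Cfsg.Agent.Lib.Helper5.MeoS

section Count

variable {K : Type*} [DecidableEq K]

theorem card_le_sum_count (R : Multiset K) (T : Finset K) (hT : T ⊆ R.toFinset) :
    T.card ≤ ∑ a ∈ T, R.count a := by
  rw [Finset.card_eq_sum_ones]
  apply Finset.sum_le_sum
  intro a ha
  exact Multiset.one_le_count_iff_mem.2 (Multiset.mem_toFinset.1 (hT ha))

theorem sum_count_le_card (R : Multiset K) (T : Finset K) (hT : T ⊆ R.toFinset) :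
    ∑ a ∈ T, R.count a ≤ R.card := by
  rw [← Multiset.toFinset_sum_count_eq R]
  exact Finset.sum_le_sum_of_subset hT

theorem count_bound_out (R : Multiset K) (S0 : Finset K) (hS : S0 ⊆ R.toFinset) {x : K}
    (hx : x ∈ R) (hx0 : x ∉ S0) : R.count x + S0.card ≤ R.card := by
  have hsub : insert x S0 ⊆ R.toFinset := by
    intro a ha
    rcases Finset.mem_insert.1 ha with rfl | ha
    · exact Multiset.mem_toFinset.2 hx
    · exact hS ha
  have h1 := sum_count_le_card R _ hsub
  rw [Finset.sum_insert hx0] at h1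
  have h2 := card_le_sum_count R S0 hS
  omega

theorem count_bound_two (R : Multiset K) {x y : K} (hx : x ∈ R) (hy : y ∈ R) (hxy : x ≠ y) :
    R.count x + 1 ≤ R.card := by
  have hsub : ({y} : Finset K) ⊆ R.toFinset := by
    intro a ha
    rw [Finset.mem_singleton.1 ha]
    exact Multiset.mem_toFinset.2 hy
  have := count_bound_out R {y} hsub hx (by simpa using hxy)
  simpa using this

theorem count_bound_pair (R : Multiset K) (S0 : Finset K) (hS : S0 ⊆ R.toFinset) {x y : K}
    (hx : x ∈ S0) (hy : y ∈ S0) (hxy : x ≠ y) :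
    R.count x + R.count y + S0.card ≤ R.card + 2 := by
  have hy' : y ∈ S0.erase x := Finset.mem_erase.2 ⟨hxy.symm, hy⟩
  have h1 := Finset.add_sum_erase S0 (fun a => R.count a) hx
  have h2 := Finset.add_sum_erase (S0.erase x) (fun a => R.count a) hy'
  have h3 := card_le_sum_count R ((S0.erase x).erase y)
    (fun a ha => hS (Finset.mem_of_mem_erase (Finset.mem_of_mem_erase ha)))
  have h4 := sum_count_le_card R S0 hS
  have h5 : ((S0.erase x).erase y).card = S0.card - 1 - 1 := by
    rw [Finset.card_erase_of_mem hy', Finset.card_erase_of_mem hx]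
  have h6 : 2 ≤ S0.card := by
    have : ({x, y} : Finset K) ⊆ S0 := by
      intro a ha
      rcases Finset.mem_insert.1 ha with rfl | ha
      · exact hx
      · rw [Finset.mem_singleton.1 ha]; exact hy
    have h7 := Finset.card_le_card this
    rwa [Finset.card_pair hxy] at h7
  omega

end Count

section Numeric

theorem le_two_pow_pred (c : ℕ) : c ≤ 2 ^ (c - 1) := by
  rcases c with _ | c
  · exact Nat.zero_le _
  · have := Nat.lt_two_pow_self (n := c)
    simp only [Nat.add_sub_cancel]
    omega

theorem two_mul_le_two_pow (a : ℕ) : 2 * a ≤ 2 ^ a := by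
  rcases a with _ | a
  · simp
  · have := Nat.lt_two_pow_self (n := a)
    rw [pow_succ]
    omega

theorem two_mul_add_one_le_three_pow (a : ℕ) : 2 * a + 1 ≤ 3 ^ a := by
  induction a with
  | zero => simp
  | succ a ih => rw [pow_succ]; omega

theorem pred_le_three_pow (n : ℕ) (h : (Even n ∧ 2 ≤ n) ∨ 7 ≤ n) : n - 1 ≤ 3 ^ (n / 2 - 1) := by
  have h1 : ∀ m : ℕ, 1 ≤ m → 2 * m - 1 ≤ 3 ^ (m - 1) := by
    intro m hm
    obtain ⟨k, rfl⟩ : ∃ k, m = k + 1 := ⟨m - 1, by omega⟩
    have := two_mul_add_one_le_three_pow k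
    simp only [Nat.add_sub_cancel]
    omega
  have h2 : ∀ m : ℕ, 3 ≤ m → 2 * m ≤ 3 ^ (m - 1) := by
    intro m hm
    obtain ⟨k, rfl⟩ : ∃ k, m = k + 3 := ⟨m - 3, by omega⟩
    have e : k + 3 - 1 = k + 2 := by omega
    rw [e]
    induction k with
    | zero => norm_num
    | succ k ih =>
      have ih' := ih (by omega) (by omega)
      have e2 : k + 1 + 2 = (k + 2) + 1 := by ring
      rw [e2, pow_succ]
      omega
  rcases h with ⟨⟨k, hk⟩, h2n⟩ | h7
  · have e : n / 2 = k := by omega
    rw [e]
    have := h1 k (by omega)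
    omega
  · rcases Nat.even_or_odd n with ⟨k, hk⟩ | ⟨k, hk⟩
    · have e : n / 2 = k := by omega
      rw [e]
      have := h1 k (by omega)
      omega
    · have e : n / 2 = k := by omega
      rw [e]
      have := h2 k (by omega)
      omega

end Numeric

end Cfsg.Agent.Lib.Helper5.MeoS
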