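import Mathlib

/-!
# Numerical core for the element-order bounds of the symplectic and orthogonal groups (helper5)

`Bq q c = 1 + q + ⋯ + q ^ c`.  The invariant `Inv` records a bound for the least common multiple `N` of the
numbers `q ^ c ± 1` attached to the orbits of eigenvalues peeled off so far.
-/

set_option autoImplicit false

namespace Cfsg.Agent.Lib.Helper5.MeoS

/-- `1 + q + ⋯ + q ^ c` -/
def Bq (q c : ℕ) : ℕ := ∑ j ∈ Finset.range (c + 1), q ^ j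

theorem Bq_succ (q c : ℕ) : Bq q (c + 1) = Bq q c + q ^ (c + 1) := by
  unfold Bq; rw [Finset.sum_range_succ]

theorem Bq_zero (q : ℕ) : Bq q 0 = 1 := by simp [Bq]

theorem Bq_pos (q c : ℕ) : 1 ≤ Bq q c := by
  induction c with
  | zero => rw [Bq_zero]
  | succ c ih => rw [Bq_succ]; omega

theorem Bq_mul (q c : ℕ) (hq : 1 ≤ q) : (q - 1) * Bq q c + 1 = q ^ (c + 1) := by
  obtain ⟨k, rfl⟩ : ∃ k, q = k + 1 := ⟨q - 1, by omega⟩
  simp only [Nat.add_sub_cancel]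
  induction c with
  | zero => rw [Bq_zero]; ring
  | succ c ih =>
    rw [Bq_succ, mul_add, add_right_comm, ih]
    ring

theorem Bq_mono (q : ℕ) {c c' : ℕ} (h : c ≤ c') : Bq q c ≤ Bq q c' := by
  unfold Bq
  exact Finset.sum_le_sum_of_subset (Finset.range_mono (by omega))

theorem Bq_add (q w W : ℕ) (hw : 1 ≤ w) : Bq q (w + W) = q ^ w * Bq q W + Bq q (w - 1) := by
  unfold Bq
  have e1 : w + W + 1 = w + (W + 1) := by ring
  have e2 : w - 1 + 1 = w := by omega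
  rw [e1, Finset.sum_range_add, e2, Finset.mul_sum, add_comm]
  congr 1
  apply Finset.sum_congr rfl
  intro x _
  rw [pow_add]

theorem pow_mul_Bq_le (q x c : ℕ) : q ^ x * Bq q c ≤ Bq q (c + x) := by
  rcases Nat.eq_zero_or_pos x with rfl | hx
  · simp
  · rw [add_comm, Bq_add q x c hx]; omega

theorem sum_two_pow_lt (V : Finset ℕ) (a : ℕ) (h : ∀ x ∈ V, x < a) :
    ∑ v ∈ V, 2 ^ v + 1 ≤ 2 ^ a := by
  have h1 : ∑ v ∈ V, 2 ^ v ≤ ∑ v ∈ Finset.range a, 2 ^ v :=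
    Finset.sum_le_sum_of_subset (fun x hx => Finset.mem_range.2 (h x hx))
  have h2 : ∀ a : ℕ, ∑ v ∈ Finset.range a, 2 ^ v + 1 = 2 ^ a := by
    intro a
    induction a with
    | zero => simp
    | succ a ih => rw [Finset.sum_range_succ, pow_succ]; omega
  have := h2 a
  omega

/-- distinct powers of two have distinct subset sums -/
theorem prod_two_pow_le (q : ℕ) (V : Finset ℕ) :
    ∏ v ∈ V, (q ^ (2 ^ v) + 1) ≤ Bq q (∑ v ∈ V, 2 ^ v) := by
  induction V using Finset.induction_on_max with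
  | empty => simp [Bq_zero]
  | insert a s hs ih =>
    have ha : a ∉ s := fun h => lt_irrefl a (hs a h)
    rw [Finset.prod_insert ha, Finset.sum_insert ha]
    have h1 := sum_two_pow_lt s a hs
    have hw : 1 ≤ 2 ^ a := Nat.one_le_two_pow
    rw [Bq_add q (2 ^ a) _ hw]
    have h2 : Bq q (∑ v ∈ s, 2 ^ v) ≤ Bq q (2 ^ a - 1) := Bq_mono q (by omega)
    calc (q ^ 2 ^ a + 1) * ∏ v ∈ s, (q ^ 2 ^ v + 1)
        ≤ (q ^ 2 ^ a + 1) * Bq q (∑ v ∈ s, 2 ^ v) := Nat.mul_le_mul_left _ ih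
      _ = q ^ 2 ^ a * Bq q (∑ v ∈ s, 2 ^ v) + Bq q (∑ v ∈ s, 2 ^ v) := by ring
      _ ≤ q ^ 2 ^ a * Bq q (∑ v ∈ s, 2 ^ v) + Bq q (2 ^ a - 1) := by omega

/-- the invariant of the orbit-peeling induction; `C2` is the number of eigenvalues used so far -/
structure Inv (q N A : ℕ) (V : Finset ℕ) (C2 : ℕ) : Prop where
  pos : 1 ≤ N
  dvd : ∀ v ∈ V, q ^ (2 ^ v) + 1 ∣ N
  le : N ≤ q ^ A * ∏ v ∈ V, (q ^ (2 ^ v) + 1)
  size : 2 * (A + ∑ v ∈ V, 2 ^ v) ≤ C2
  ev : Odd q → C2 ≠ 0 → Even N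
  par : Even C2

theorem Inv.start (q : ℕ) : Inv q 1 0 ∅ 0 where
  pos := le_refl 1
  dvd := by simp
  le := by simp
  size := by simp
  ev := fun _ h => absurd rfl h
  par := ⟨0, rfl⟩

theorem Inv.final {q N A C2 : ℕ} {V : Finset ℕ} (h : Inv q N A V C2) : N ≤ Bq q (C2 / 2) := by
  calc N ≤ q ^ A * ∏ v ∈ V, (q ^ (2 ^ v) + 1) := h.le
    _ ≤ q ^ A * Bq q (∑ v ∈ V, 2 ^ v) := Nat.mul_le_mul_left _ (prod_two_pow_le q V)
    _ ≤ Bq q (∑ v ∈ V, 2 ^ v + A) := pow_mul_Bq_le q A _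
    _ ≤ Bq q (C2 / 2) := Bq_mono q (by have := h.size; omega)

theorem even_pow_sub_one {q c : ℕ} (hq : Odd q) : Even (q ^ c - 1) := by
  have h1 : Odd (q ^ c) := hq.pow
  obtain ⟨k, hk⟩ := h1
  exact ⟨k, by omega⟩

theorem even_pow_add_one {q c : ℕ} (hq : Odd q) : Even (q ^ c + 1) := by
  have h1 : Odd (q ^ c) := hq.pow
  obtain ⟨k, hk⟩ := h1
  exact ⟨k + 1, by omega⟩

/-- peeling an orbit of "minus" type: all its elements have order dividing `q ^ c - 1` -/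
theorem Inv.minus {q N A C2 : ℕ} {V : Finset ℕ} (h : Inv q N A V C2) (hq : 2 ≤ q) (c : ℕ)
    (hc : 1 ≤ c) : Inv q (Nat.lcm N (q ^ c - 1)) (A + c) V (C2 + 2 * c) where
  pos := by
    have h1 : 2 ^ c ≤ q ^ c := Nat.pow_le_pow_left hq c
    have h2 : 2 ≤ 2 ^ c := by
      calc 2 = 2 ^ 1 := (pow_one 2).symm
        _ ≤ 2 ^ c := Nat.pow_le_pow_right (by omega) hc
    exact Nat.pos_of_ne_zero (Nat.lcm_ne_zero (by have := h.pos; omega) (by omega))
  dvd := fun v hv => dvd_trans (h.dvd v hv) (Nat.dvd_lcm_left _ _)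
  le := by
    have h0 : 0 < Nat.gcd N (q ^ c - 1) := Nat.gcd_pos_of_pos_left _ h.pos
    have h1 : Nat.lcm N (q ^ c - 1) ≤ N * (q ^ c - 1) := by
      have := Nat.gcd_mul_lcm N (q ^ c - 1)
      calc Nat.lcm N (q ^ c - 1) ≤ Nat.gcd N (q ^ c - 1) * Nat.lcm N (q ^ c - 1) :=
            Nat.le_mul_of_pos_left _ h0
        _ = N * (q ^ c - 1) := this
    calc Nat.lcm N (q ^ c - 1) ≤ N * (q ^ c - 1) := h1
      _ ≤ N * q ^ c := Nat.mul_le_mul_left _ (Nat.sub_le _ _)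
      _ ≤ (q ^ A * ∏ v ∈ V, (q ^ (2 ^ v) + 1)) * q ^ c := Nat.mul_le_mul_right _ h.le
      _ = q ^ (A + c) * ∏ v ∈ V, (q ^ (2 ^ v) + 1) := by rw [pow_add]; ring
  size := by have := h.size; omega
  ev := fun hodd _ => by
    have h1 : Even (q ^ c - 1) := even_pow_sub_one hodd
    exact (even_iff_two_dvd.1 h1).trans (Nat.dvd_lcm_right _ _) |> even_iff_two_dvd.2
  par := by
    obtain ⟨k, hk⟩ := h.par
    exact ⟨k + c, by omega⟩

/-- peeling an orbit of "plus" type: all its elements have order dividing `q ^ c + 1` -/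
theorem Inv.plus {q N A C2 : ℕ} {V : Finset ℕ} (h : Inv q N A V C2) (hq : 2 ≤ q) (c : ℕ)
    (hc : 1 ≤ c) : ∃ (A' : ℕ) (V' : Finset ℕ),
      Inv q (Nat.lcm N (q ^ c + 1)) A' V' (C2 + 2 * c) := by
  obtain ⟨v, o, ho, hco⟩ := Nat.exists_eq_two_pow_mul_odd (n := c) (by omega)
  have hw : 1 ≤ 2 ^ v := Nat.one_le_two_pow
  have hwc : 2 ^ v ≤ c := by
    rw [hco]; exact Nat.le_mul_of_pos_right _ (by obtain ⟨k, hk⟩ := ho; omega)
  -- `g = q ^ 2 ^ v + 1` divides `q ^ c + 1`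
  have hg : q ^ (2 ^ v) + 1 ∣ q ^ c + 1 := by
    have := Odd.nat_add_dvd_pow_add_pow (q ^ (2 ^ v)) 1 ho
    rw [one_pow, ← pow_mul, ← hco] at this
    exact this
  obtain ⟨r, hr⟩ := hg
  have hgpos : 0 < q ^ (2 ^ v) + 1 := by omega
  -- the cofactor is at most `q ^ (c - 2 ^ v)`
  have hr_le : r ≤ q ^ (c - 2 ^ v) := by
    have h1 : q ^ c + 1 ≤ (q ^ (2 ^ v) + 1) * q ^ (c - 2 ^ v) := by
      have e : q ^ c = q ^ (2 ^ v) * q ^ (c - 2 ^ v) := by
        rw [← pow_add]; congr 1; omega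
      have h2 : 1 ≤ q ^ (c - 2 ^ v) := Nat.one_le_pow _ _ (by omega)
      rw [e, add_mul, one_mul]
      omega
    rw [hr] at h1
    exact Nat.le_of_mul_le_mul_left h1 hgpos
  have hpos : 1 ≤ Nat.lcm N (q ^ c + 1) :=
    Nat.pos_of_ne_zero (Nat.lcm_ne_zero (by have := h.pos; omega) (by omega))
  have hev : Odd q → C2 + 2 * c ≠ 0 → Even (Nat.lcm N (q ^ c + 1)) := fun hodd _ => by
    have h1 : Even (q ^ c + 1) := even_pow_add_one hodd
    exact (even_iff_two_dvd.1 h1).trans (Nat.dvd_lcm_right _ _) |> even_iff_two_dvd.2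
  have hpar : Even (C2 + 2 * c) := by
    obtain ⟨k, hk⟩ := h.par
    exact ⟨k + c, by omega⟩
  by_cases hv : v ∈ V
  · -- the factor `g` is already present
    refine ⟨A + (c - 2 ^ v), V, hpos, ?_, ?_, ?_, hev, hpar⟩
    · exact fun v' hv' => dvd_trans (h.dvd v' hv') (Nat.dvd_lcm_left _ _)
    · -- lcm N (g r) ≤ N r
      have hgN : q ^ (2 ^ v) + 1 ∣ N := h.dvd v hv
      have hdvd : Nat.lcm N (q ^ c + 1) ∣ N * r := by
        apply Nat.lcm_dvd (Dvd.intro _ rfl)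
        rw [hr]
        exact Nat.mul_dvd_mul_right hgN r
      have hNr : 0 < N * r := by
        have hrpos : 0 < r := by
          rcases Nat.eq_zero_or_pos r with h0 | h0
          · rw [h0, mul_zero] at hr; omega
          · exact h0
        exact Nat.mul_pos h.pos hrpos
      calc Nat.lcm N (q ^ c + 1) ≤ N * r := Nat.le_of_dvd hNr hdvd
        _ ≤ N * q ^ (c - 2 ^ v) := Nat.mul_le_mul_left _ hr_le
        _ ≤ (q ^ A * ∏ v ∈ V, (q ^ (2 ^ v) + 1)) * q ^ (c - 2 ^ v) :=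
            Nat.mul_le_mul_right _ h.le
        _ = q ^ (A + (c - 2 ^ v)) * ∏ v ∈ V, (q ^ (2 ^ v) + 1) := by rw [pow_add]; ring
    · have := h.size; omega
  · -- a new factor
    refine ⟨A + (c - 2 ^ v), insert v V, hpos, ?_, ?_, ?_, hev, hpar⟩
    · intro v' hv'
      rcases Finset.mem_insert.1 hv' with rfl | hv'
      · exact dvd_trans ⟨r, hr⟩ (Nat.dvd_lcm_right _ _)
      · exact dvd_trans (h.dvd v' hv') (Nat.dvd_lcm_left _ _)
    · rw [Finset.prod_insert hv]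
      have h0 : 0 < Nat.gcd N (q ^ c + 1) := Nat.gcd_pos_of_pos_left _ h.pos
      have h1 : Nat.lcm N (q ^ c + 1) ≤ N * (q ^ c + 1) := by
        have := Nat.gcd_mul_lcm N (q ^ c + 1)
        calc Nat.lcm N (q ^ c + 1) ≤ Nat.gcd N (q ^ c + 1) * Nat.lcm N (q ^ c + 1) :=
              Nat.le_mul_of_pos_left _ h0
          _ = N * (q ^ c + 1) := this
      calc Nat.lcm N (q ^ c + 1) ≤ N * (q ^ c + 1) := h1
        _ = N * ((q ^ (2 ^ v) + 1) * r) := by rw [hr]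
        _ ≤ N * ((q ^ (2 ^ v) + 1) * q ^ (c - 2 ^ v)) :=
            Nat.mul_le_mul_left _ (Nat.mul_le_mul_left _ hr_le)
        _ ≤ (q ^ A * ∏ v ∈ V, (q ^ (2 ^ v) + 1)) * ((q ^ (2 ^ v) + 1) * q ^ (c - 2 ^ v)) :=
            Nat.mul_le_mul_right _ h.le
        _ = q ^ (A + (c - 2 ^ v)) * ((q ^ 2 ^ v + 1) * ∏ v ∈ V, (q ^ (2 ^ v) + 1)) := by
            rw [pow_add]; ring
    · rw [Finset.sum_insert hv]
      have := h.size; omega

end Cfsg.Agent.Lib.Helper5.MeoS
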