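import Mathlib
import Cfsg.Agent.Lib.Helper5.MeoS.Num

/-!
# Peeling orbits of eigenvalues (helper5)

A finite set `S` of nonzero elements of a field, none equal to its own inverse, closed under `x ↦ x ^ q`
(injective) and `x ↦ x⁻¹`, is killed by a number `N ≤ 1 + q + ⋯ + q ^ (|S| / 2)`.
-/

set_option autoImplicit false

namespace Cfsg.Agent.Lib.Helper5.MeoS

variable {K : Type*} [Field K]

/-- the set of eigenvalues other than `±1`: closed under `x ↦ x ^ q` and `x ↦ x⁻¹` -/
structure Closed (q : ℕ) (S : Finset K) : Prop where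
  pow : ∀ x ∈ S, x ^ q ∈ S
  inv : ∀ x ∈ S, x⁻¹ ∈ S
  ne : ∀ x ∈ S, x ≠ x⁻¹
  nz : ∀ x ∈ S, x ≠ 0

theorem iter_pow (q : ℕ) (i : ℕ) (x : K) : (fun y : K => y ^ q)^[i] x = x ^ (q ^ i) := by
  induction i with
  | zero => simp
  | succ i ih => rw [Function.iterate_succ_apply', ih, ← pow_mul, ← pow_succ]

theorem Closed.periodic {q : ℕ} {S : Finset K} (h : Closed q S)
    (hinj : Function.Injective (fun x : K => x ^ q)) {x : K} (hx : x ∈ S) :
    x ∈ Function.periodicPts (fun y : K => y ^ q) := by
  let g : S → S := fun y => ⟨y.1 ^ q, h.pow y.1 y.2⟩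
  have hg : Function.Injective g := fun a b hab => Subtype.ext (hinj (congrArg Subtype.val hab))
  have hit : ∀ (n : ℕ) (y : S), (g^[n] y).1 = (fun y : K => y ^ q)^[n] y.1 := by
    intro n y
    induction n with
    | zero => rfl
    | succ n ih => rw [Function.iterate_succ_apply', Function.iterate_succ_apply', ← ih]
  obtain ⟨n, hn, hper⟩ := Function.mem_periodicPts.1 (hg.mem_periodicPts ⟨x, hx⟩)
  refine Function.mem_periodicPts.2 ⟨n, hn, ?_⟩
  have := congrArg Subtype.val hper
  rw [hit] at this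
  exact this

theorem Closed.iter_mem {q : ℕ} {S : Finset K} (h : Closed q S) {x : K} (hx : x ∈ S) (i : ℕ) :
    (fun y : K => y ^ q)^[i] x ∈ S := by
  induction i with
  | zero => exact hx
  | succ i ih => rw [Function.iterate_succ_apply']; exact h.pow _ ih

theorem iter_inv (q : ℕ) (i : ℕ) (x : K) :
    (fun y : K => y ^ q)^[i] x⁻¹ = ((fun y : K => y ^ q)^[i] x)⁻¹ := by
  rw [iter_pow, iter_pow, inv_pow]

theorem Closed.peel [DecidableEq K] {q : ℕ} {S : Finset K} (h : Closed q S)
    (hinj : Function.Injective (fun x : K => x ^ q)) {l : K} (hl : l ∈ S) :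
    ∃ (T : Finset K) (c : ℕ), T ⊆ S ∧ 1 ≤ c ∧ T.card = 2 * c ∧ (∀ x ∈ T, x ^ q ∈ T) ∧
      (∀ x ∈ T, x⁻¹ ∈ T) ∧
      ((∀ x ∈ T, x ^ (q ^ c - 1) = 1) ∨ (∀ x ∈ T, x ^ (q ^ c + 1) = 1)) := by
  set φ : K → K := fun y : K => y ^ q with hφ
  set d := Function.minimalPeriod φ l with hd_def
  have hper : l ∈ Function.periodicPts φ := h.periodic hinj hl
  have hd : 0 < d := Function.minimalPeriod_pos_of_mem_periodicPts hper
  set O : Finset K := (Finset.range d).image (fun i => φ^[i] l) with hO
  have hO_mem : ∀ i, φ^[i] l ∈ O := by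
    intro i
    rw [← Function.iterate_mod_minimalPeriod_eq (f := φ) (x := l) (n := i)]
    exact Finset.mem_image.2 ⟨i % d, Finset.mem_range.2 (Nat.mod_lt _ hd), rfl⟩
  have hO_card : O.card = d := by
    rw [hO, Finset.card_image_of_injOn, Finset.card_range]
    intro a ha b hb hab
    exact Function.iterate_injOn_Iio_minimalPeriod (f := φ) (x := l)
      (by simpa using ha) (by simpa using hb) hab
  have hO_sub : O ⊆ S := by
    intro x hx
    obtain ⟨i, _, rfl⟩ := Finset.mem_image.1 hx
    exact h.iter_mem hl i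
  have hO_pow : ∀ x ∈ O, x ^ q ∈ O := by
    intro x hx
    obtain ⟨i, _, rfl⟩ := Finset.mem_image.1 hx
    have : (φ^[i] l) ^ q = φ^[i + 1] l := by rw [Function.iterate_succ_apply']
    rw [this]
    exact hO_mem _
  by_cases h1 : l⁻¹ ∈ O
  · -- the orbit is closed under inversion
    obtain ⟨j, hj, hjl⟩ := Finset.mem_image.1 h1
    have hj : j < d := Finset.mem_range.1 hj
    have hj0 : j ≠ 0 := by
      rintro rfl
      exact h.ne l hl hjl
    have hp2 : Function.IsPeriodicPt φ (2 * j) l := by
      show φ^[2 * j] l = l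
      rw [two_mul, Function.iterate_add_apply, hjl, iter_inv, hjl, inv_inv]
    have hdvd : d ∣ 2 * j := hp2.minimalPeriod_dvd
    have hd2 : d = 2 * j := by
      obtain ⟨k, hk⟩ := hdvd
      have hk1 : k = 1 := by
        rcases k with _ | _ | k
        · omega
        · rfl
        · exfalso
          have : d * (k + 1 + 1) = d * k + d + d := by ring
          omega
      rw [hk1, mul_one] at hk
      exact hk.symm
    refine ⟨O, j, hO_sub, by omega, by rw [hO_card, hd2], hO_pow, ?_, Or.inr ?_⟩
    · intro x hx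
      obtain ⟨i, _, rfl⟩ := Finset.mem_image.1 hx
      have : (φ^[i] l)⁻¹ = φ^[i + j] l := by
        rw [Function.iterate_add_apply, hjl, iter_inv]
      rw [this]
      exact hO_mem _
    · intro x hx
      have hx0 : x ≠ 0 := h.nz x (hO_sub hx)
      obtain ⟨i, _, rfl⟩ := Finset.mem_image.1 hx
      have e1 : (φ^[i] l) ^ (q ^ j) = (φ^[i] l)⁻¹ := by
        rw [← iter_pow q j, ← Function.iterate_add_apply, add_comm, Function.iterate_add_apply,
          hjl, iter_inv]
      rw [pow_succ, e1, inv_mul_cancel₀ hx0]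
  · -- the orbit and its inverse are disjoint
    have hdisj : Disjoint O (O.image (·⁻¹)) := by
      rw [Finset.disjoint_left]
      intro x hx hx'
      obtain ⟨y, hy, hyx⟩ := Finset.mem_image.1 hx'
      obtain ⟨i, _, rfl⟩ := Finset.mem_image.1 hx
      obtain ⟨k, hk, rfl⟩ := Finset.mem_image.1 hy
      have hk : k < d := Finset.mem_range.1 hk
      apply h1
      have e1 : φ^[d - k] (φ^[i] l) = l⁻¹ := by
        rw [← hyx, iter_inv, ← Function.iterate_add_apply]
        have : d - k + k = d := by omega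
        rw [this, Function.iterate_minimalPeriod]
      rw [← e1, ← Function.iterate_add_apply]
      exact hO_mem _
    have hcard2 : (O.image (·⁻¹)).card = d := by
      rw [Finset.card_image_of_injective _ inv_injective, hO_card]
    refine ⟨O ∪ O.image (·⁻¹), d, ?_, hd, ?_, ?_, ?_, Or.inl ?_⟩
    · intro x hx
      rcases Finset.mem_union.1 hx with hx | hx
      · exact hO_sub hx
      · obtain ⟨y, hy, rfl⟩ := Finset.mem_image.1 hx
        exact h.inv y (hO_sub hy)
    · rw [Finset.card_union_of_disjoint hdisj, hcard2, hO_card]; ring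
    · intro x hx
      rcases Finset.mem_union.1 hx with hx | hx
      · exact Finset.mem_union_left _ (hO_pow x hx)
      · obtain ⟨y, hy, rfl⟩ := Finset.mem_image.1 hx
        rw [inv_pow]
        exact Finset.mem_union_right _ (Finset.mem_image.2 ⟨_, hO_pow y hy, rfl⟩)
    · intro x hx
      rcases Finset.mem_union.1 hx with hx | hx
      · exact Finset.mem_union_right _ (Finset.mem_image.2 ⟨x, hx, rfl⟩)
      · obtain ⟨y, hy, rfl⟩ := Finset.mem_image.1 hx
        rw [inv_inv]
        exact Finset.mem_union_left _ hy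
    · have key : ∀ x ∈ O, x ^ (q ^ d - 1) = 1 := by
        intro x hx
        have hx0 : x ≠ 0 := h.nz x (hO_sub hx)
        obtain ⟨i, _, rfl⟩ := Finset.mem_image.1 hx
        have e1 : (φ^[i] l) ^ (q ^ d) = φ^[i] l := by
          rw [← iter_pow q d, ← Function.iterate_add_apply, add_comm,
            Function.iterate_add_apply, Function.iterate_minimalPeriod]
        have hq1 : 1 ≤ q ^ d := by
          rcases Nat.eq_zero_or_pos (q ^ d) with h0 | h0
          · exfalso
            rw [h0, pow_zero] at e1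
            -- `1 = φ^[i] l`, so `φ^[i] l` equals its own inverse
            exact h.ne _ (hO_sub hx) (by rw [← e1, inv_one])
          · exact h0
        have e2 : (φ^[i] l) ^ (q ^ d - 1) * φ^[i] l = 1 * φ^[i] l := by
          rw [← pow_succ, Nat.sub_add_cancel hq1, e1, one_mul]
        exact mul_right_cancel₀ hx0 e2
      intro x hx
      rcases Finset.mem_union.1 hx with hx | hx
      · exact key x hx
      · obtain ⟨y, hy, rfl⟩ := Finset.mem_image.1 hx
        rw [inv_pow, key y hy, inv_one]

theorem Closed.sdiff [DecidableEq K] {q : ℕ} {S T : Finset K} (h : Closed q S)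
    (hinj : Function.Injective (fun x : K => x ^ q))
    (hpow : ∀ x ∈ T, x ^ q ∈ T) (hinv : ∀ x ∈ T, x⁻¹ ∈ T) : Closed q (S \ T) where
  pow := by
    intro x hx
    obtain ⟨hxS, hxT⟩ := Finset.mem_sdiff.1 hx
    refine Finset.mem_sdiff.2 ⟨h.pow x hxS, fun hc => hxT ?_⟩
    -- `x ↦ x ^ q` maps `T` onto `T`
    have himg : T.image (fun y : K => y ^ q) = T := by
      apply Finset.eq_of_subset_of_card_le
      · intro y hy
        obtain ⟨z, hz, rfl⟩ := Finset.mem_image.1 hy
        exact hpow z hz
      · rw [Finset.card_image_of_injective _ hinj]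
    rw [← himg] at hc
    obtain ⟨z, hz, hzx⟩ := Finset.mem_image.1 hc
    rw [← hinj hzx]
    exact hz
  inv := by
    intro x hx
    obtain ⟨hxS, hxT⟩ := Finset.mem_sdiff.1 hx
    refine Finset.mem_sdiff.2 ⟨h.inv x hxS, fun hc => hxT ?_⟩
    have := hinv _ hc
    rwa [inv_inv] at this
  ne := fun x hx => h.ne x (Finset.mem_sdiff.1 hx).1
  nz := fun x hx => h.nz x (Finset.mem_sdiff.1 hx).1

theorem orbit_main [DecidableEq K] (q : ℕ) (hq : 2 ≤ q)
    (hinj : Function.Injective (fun x : K => x ^ q)) :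
    ∀ (n : ℕ) (S : Finset K), S.card = n → Closed q S →
      ∀ (N A : ℕ) (V : Finset ℕ) (C2 : ℕ), Inv q N A V C2 →
        ∃ (N' A' : ℕ) (V' : Finset ℕ), Inv q N' A' V' (C2 + S.card) ∧ N ∣ N' ∧
          ∀ x ∈ S, x ^ N' = 1 := by
  intro n
  induction n using Nat.strong_induction_on with
  | _ n ih =>
    intro S hS hcl N A V C2 hinv
    rcases S.eq_empty_or_nonempty with rfl | ⟨l, hl⟩
    · exact ⟨N, A, V, by simpa using hinv, dvd_rfl, by simp⟩
    · obtain ⟨T, c, hTS, hc, hTc, hTpow, hTinv, hord⟩ := hcl.peel hinj hl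
      have hcl' : Closed q (S \ T) := hcl.sdiff hinj hTpow hTinv
      have hle : T.card ≤ S.card := Finset.card_le_card hTS
      have hcard : (S \ T).card = S.card - 2 * c := by
        rw [Finset.card_sdiff_of_subset hTS, hTc]
      have hlt : (S \ T).card < n := by omega
      have hsplit : ∀ x ∈ S, x ∈ T ∨ x ∈ S \ T := by
        intro x hx
        by_cases hxT : x ∈ T
        · exact Or.inl hxT
        · exact Or.inr (Finset.mem_sdiff.2 ⟨hx, hxT⟩)
      have hC : C2 + 2 * c + (S \ T).card = C2 + S.card := by omega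
      rcases hord with hord | hord
      · have hinv' := hinv.minus hq c hc
        obtain ⟨N', A', V', hI, hdvd, hall⟩ := ih _ hlt (S \ T) rfl hcl' _ _ _ _ hinv'
        refine ⟨N', A', V', ?_, (Nat.dvd_lcm_left _ _).trans hdvd, ?_⟩
        · rw [← hC]; exact hI
        · intro x hx
          rcases hsplit x hx with hxT | hxT
          · have : q ^ c - 1 ∣ N' := (Nat.dvd_lcm_right _ _).trans hdvd
            obtain ⟨k, rfl⟩ := this
            rw [pow_mul, hord x hxT, one_pow]
          · exact hall x hxT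
      · obtain ⟨A1, V1, hinv'⟩ := hinv.plus hq c hc
        obtain ⟨N', A', V', hI, hdvd, hall⟩ := ih _ hlt (S \ T) rfl hcl' _ _ _ _ hinv'
        refine ⟨N', A', V', ?_, (Nat.dvd_lcm_left _ _).trans hdvd, ?_⟩
        · rw [← hC]; exact hI
        · intro x hx
          rcases hsplit x hx with hxT | hxT
          · have : q ^ c + 1 ∣ N' := (Nat.dvd_lcm_right _ _).trans hdvd
            obtain ⟨k, rfl⟩ := this
            rw [pow_mul, hord x hxT, one_pow]
          · exact hall x hxT

/-- the orbit bound -/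
theorem orbit_bound [DecidableEq K] (q : ℕ) (hq : 2 ≤ q)
    (hinj : Function.Injective (fun x : K => x ^ q)) (S : Finset K) (hcl : Closed q S) :
    ∃ N : ℕ, 1 ≤ N ∧ (∀ x ∈ S, x ^ N = 1) ∧ N ≤ Bq q (S.card / 2) ∧ Even S.card ∧
      (Odd q → S.Nonempty → Even N) := by
  obtain ⟨N, A, V, hI, _, hall⟩ := orbit_main q hq hinj _ S rfl hcl 1 0 ∅ 0 (Inv.start q)
  rw [zero_add] at hI
  refine ⟨N, hI.pos, hall, hI.final, hI.par, fun hodd hne => hI.ev hodd ?_⟩
  exact Finset.card_ne_zero.2 hne

end Cfsg.Agent.Lib.Helper5.MeoS
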