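import Mathlib

/-!
# Roots of self-reciprocal polynomials over finite fields (helper5)

* multiplicities of `x` and `x⁻¹` agree for a polynomial proportional to its reverse;
* roots of a polynomial over a finite field `F` are closed under `x ↦ x ^ |F|`;
* a split monic polynomial all of whose roots satisfy `x ^ N = ε`, with multiplicities at most `P`,
  divides `(X ^ N - ε) ^ P`.
-/

set_option autoImplicit false

namespace Cfsg.Agent.Lib.Helper5.MeoS

open Polynomial

section Rev

variable {K : Type*} [Field K]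

theorem reverse_X_sub_C_eq {x : K} (hx : x ≠ 0) :
    (X - C x : K[X]).reverse = C (-x) * (X - C x⁻¹) := by
  have h1 : (X - C x : K[X]) = X + C (-x) := by rw [C_neg, sub_eq_add_neg]
  have h2 : (X : K[X]).reverse = 1 := by
    have := reverse_mul_X (1 : K[X])
    rw [one_mul] at this
    rw [this]
    simpa using reverse_C (1 : K)
  rw [h1, reverse_add_C, natDegree_X, pow_one, h2, mul_sub, ← C_mul, neg_mul,
    mul_inv_cancel₀ hx, C_neg, C_neg, C_1]
  ring

theorem reverse_pow_eq (f : K[X]) (k : ℕ) : (f ^ k).reverse = f.reverse ^ k := by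
  induction k with
  | zero => simpa using reverse_C (1 : K)
  | succ k ih => rw [pow_succ, reverse_mul_of_domain, ih, pow_succ]

theorem pow_dvd_reverse {f : K[X]} {x : K} (hx : x ≠ 0) {k : ℕ} (h : (X - C x) ^ k ∣ f) :
    (X - C x⁻¹) ^ k ∣ f.reverse := by
  obtain ⟨g, rfl⟩ := h
  rw [reverse_mul_of_domain, reverse_pow_eq, reverse_X_sub_C_eq hx, mul_pow, mul_assoc]
  exact Dvd.dvd.mul_left (Dvd.intro _ rfl) _

theorem rootMultiplicity_inv_of_reverse {f : K[X]} (hf : f ≠ 0) {u : K} (hu : u ≠ 0)
    (hrev : f.reverse = C u * f) {x : K} (hx : x ≠ 0) :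
    rootMultiplicity x⁻¹ f = rootMultiplicity x f := by
  have key : ∀ y : K, y ≠ 0 → rootMultiplicity y f ≤ rootMultiplicity y⁻¹ f := by
    intro y hy
    rw [le_rootMultiplicity_iff hf]
    have h1 := pow_dvd_reverse hy (pow_rootMultiplicity_dvd f y)
    rw [hrev] at h1
    exact (IsUnit.dvd_mul_left (isUnit_C.2 (isUnit_iff_ne_zero.2 hu))).1 h1
  apply le_antisymm
  · have := key x⁻¹ (inv_ne_zero hx)
    rwa [inv_inv] at this
  · exact key x hx

end Rev

section Frob

variable (F : Type*) [Field F] [Fintype F] (K : Type*) [Field K] [Algebra F K]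

theorem exists_frob : ∃ σ : K →+* K, (∀ x, σ x = x ^ Fintype.card F) ∧
    ∀ a : F, σ (algebraMap F K a) = algebraMap F K a := by
  obtain ⟨p, hchar⟩ := CharP.exists F
  obtain ⟨e, hp, hq⟩ := FiniteField.card F p
  have : Fact p.Prime := ⟨hp⟩
  have : CharP K p := charP_of_injective_algebraMap (algebraMap F K).injective p
  refine ⟨iterateFrobenius K p e, ?_, ?_⟩
  · intro x
    rw [iterateFrobenius_def, hq]
  · intro a
    rw [iterateFrobenius_def, ← hq, ← map_pow, FiniteField.pow_card]

variable {F K}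

theorem pow_card_injective : Function.Injective (fun x : K => x ^ Fintype.card F) := by
  obtain ⟨σ, h1, _⟩ := exists_frob F K
  intro a b hab
  apply σ.injective
  rw [h1, h1]
  exact hab

theorem isRoot_pow_card (χ : F[X]) {x : K} (hx : (χ.map (algebraMap F K)).IsRoot x) :
    (χ.map (algebraMap F K)).IsRoot (x ^ Fintype.card F) := by
  obtain ⟨σ, h1, h2⟩ := exists_frob F K
  have hcomp : σ.comp (algebraMap F K) = algebraMap F K := RingHom.ext h2
  rw [IsRoot.def, eval_map] at hx ⊢
  have := hom_eval₂ χ (algebraMap F K) σ x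
  rw [hx, map_zero, hcomp, h1] at this
  exact this.symm

end Frob

section Dvd

variable {K : Type*} [Field K]

theorem dvd_pow_of_roots [DecidableEq K] {f : K[X]} (hs : f.Splits) (hm : f.Monic) {N : ℕ}
    (hN : 1 ≤ N) (ε : K) (hroot : ∀ x ∈ f.roots, x ^ N = ε) (P : ℕ)
    (hP : ∀ x, f.roots.count x ≤ P) : f ∣ (X ^ N - C ε) ^ P := by
  have hg0 : (X ^ N - C ε : K[X]) ≠ 0 := X_pow_sub_C_ne_zero (by omega) ε
  have hgP : ((X ^ N - C ε : K[X]) ^ P) ≠ 0 := pow_ne_zero _ hg0
  have e := hs.eq_prod_roots_of_monic hm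
  rw [e, Multiset.prod_X_sub_C_dvd_iff_le_roots hgP, roots_pow, Multiset.le_iff_count]
  intro x
  rw [Multiset.count_nsmul]
  by_cases hx : x ∈ f.roots
  · have h1 : 1 ≤ (X ^ N - C ε : K[X]).roots.count x := by
      rw [Multiset.one_le_count_iff_mem, mem_roots hg0]
      simp [hroot x hx]
    calc f.roots.count x ≤ P := hP x
      _ = P * 1 := (mul_one P).symm
      _ ≤ P * _ := Nat.mul_le_mul_left _ h1
  · rw [Multiset.count_eq_zero_of_notMem hx]
    exact Nat.zero_le _

end Dvd

end Cfsg.Agent.Lib.Helper5.MeoS
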