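import Mathlib
import Cfsg.Agent.Lib.Helper5.MeoS.Orbit
import Cfsg.Agent.Lib.Helper5.MeoS.Roots
import Cfsg.Agent.Lib.Helper5.MeoS.Mult

/-!
# The element-order bound for self-reciprocal characteristic polynomials (helper5)

A monic polynomial `χ` of degree `n` over the field with `q` elements that is proportional to its reverse
divides `X ^ k ∓ 1` for some `k ≤ 1 + q + ⋯ + q ^ (n / 2)` (for `n` even, or `q` odd and `n ≥ 7`).
-/

set_option autoImplicit false

namespace Cfsg.Agent.Lib.Helper5.MeoS

open Polynomial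

variable {F : Type*} [Field F] [Fintype F]

theorem neg_one_eq_one_of_even_card (h : Even (Fintype.card F)) : (-1 : F) = 1 := by
  obtain ⟨p, hchar⟩ := CharP.exists F
  obtain ⟨e, hp, hq⟩ := FiniteField.card F p
  rw [hq] at h
  have h2 : Even p := (Nat.even_pow.1 h).1
  have hp2 : p = 2 := (Nat.Prime.even_iff hp).1 h2
  subst hp2
  exact CharTwo.neg_eq 1

theorem pow_le_Bq (q c : ℕ) : q ^ c ≤ Bq q c := by
  unfold Bq
  exact Finset.single_le_sum (f := fun j => q ^ j) (fun _ _ => Nat.zero_le _)
    (Finset.mem_range.2 (Nat.lt_succ_self c))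

theorem finish (χ : F[X]) (hm : χ.Monic) (K : Type*) [Field K] [Algebra F K] [IsAlgClosed K]
    [DecidableEq K] (N : ℕ) (hN : 1 ≤ N) (ε : F)
    (hε : ε = 1 ∨ (ε = -1 ∧ Odd (Fintype.card F))) (a : ℕ)
    (hroot : ∀ x ∈ (χ.map (algebraMap F K)).roots, x ^ N = algebraMap F K ε)
    (hP : ∀ x, (χ.map (algebraMap F K)).roots.count x ≤ Fintype.card F ^ a) :
    χ ∣ X ^ (N * Fintype.card F ^ a) - C ε := by
  have h1 := dvd_pow_of_roots (IsAlgClosed.splits _) (hm.map (algebraMap F K)) hN _ hroot _ hP
  have h2 : (X ^ N - C (algebraMap F K ε) : K[X]) ^ (Fintype.card F ^ a) =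
      ((X ^ N - C ε : F[X]) ^ (Fintype.card F ^ a)).map (algebraMap F K) := by
    simp only [Polynomial.map_pow, Polynomial.map_sub, map_X, map_C]
  rw [h2, Polynomial.map_dvd_map'] at h1
  obtain ⟨p, hchar⟩ := CharP.exists F
  obtain ⟨e, hp, hq⟩ := FiniteField.card F p
  have : Fact p.Prime := ⟨hp⟩
  have h3 : (X ^ N - C ε : F[X]) ^ (Fintype.card F ^ a) =
      X ^ (N * Fintype.card F ^ a) - C ε := by
    have hqa : Fintype.card F ^ a = p ^ ((e : ℕ) * a) := by rw [hq, pow_mul]
    have hε' : ε ^ (Fintype.card F ^ a) = ε := by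
      rcases hε with rfl | ⟨rfl, hodd⟩
      · exact one_pow _
      · exact Odd.neg_one_pow hodd.pow
    conv_lhs => rw [hqa, sub_pow_char_pow, ← hqa]
    rw [← pow_mul, ← C_pow, hε']
  rw [h3] at h1
  exact h1

theorem poly_core_aux (K : Type*) [Field K] [Algebra F K] [IsAlgClosed K]
    (χ : F[X]) (hm : χ.Monic) (u : F) (hu : u ≠ 0) (hrev : χ.reverse = C u * χ)
    (hn : Even χ.natDegree ∨ (Odd (Fintype.card F) ∧ 7 ≤ χ.natDegree)) :
    ∃ (k : ℕ) (ε : F), 0 < k ∧ (ε = 1 ∨ ε = -1) ∧
      k ≤ Bq (Fintype.card F) (χ.natDegree / 2) ∧ χ ∣ X ^ k - C ε := by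
  classical
  set q := Fintype.card F with hq_def
  set n := χ.natDegree with hn_def
  have hq : 2 ≤ q := Fintype.one_lt_card
  have hq0 : 0 < q := by omega
  set f : K[X] := χ.map (algebraMap F K) with hf_def
  have hfm : f.Monic := hm.map _
  have hf0 : f ≠ 0 := hfm.ne_zero
  have hfs : f.Splits := IsAlgClosed.splits f
  have hfn : f.natDegree = n := hm.natDegree_map _
  set R := f.roots with hR_def
  have hRcard : R.card = n := by rw [← hfn]; exact splits_iff_card_roots.1 hfs
  have hfrev : f.reverse = C (algebraMap F K u) * f := by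
    have : f.reverse = (χ.reverse).map (algebraMap F K) := by
      unfold Polynomial.reverse
      rw [hfn, hf_def, reflect_map]
    rw [this, hrev, Polynomial.map_mul, map_C]
  have hiu : algebraMap F K u ≠ 0 := by
    rw [Ne, map_eq_zero]; exact hu
  have hc0 : χ.coeff 0 ≠ 0 := by
    intro h0
    have := congrArg (fun g => coeff g 0) hrev
    simp only [coeff_zero_reverse, coeff_C_mul, h0, mul_zero, hm.leadingCoeff] at this
    exact one_ne_zero this
  have h0R : (0 : K) ∉ R := by
    rw [hR_def, mem_roots hf0, IsRoot.def, ← coeff_zero_eq_eval_zero, hf_def, coeff_map,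
      map_eq_zero]
    exact hc0
  have hRnz : ∀ x ∈ R, x ≠ 0 := fun x hx h => h0R (h ▸ hx)
  have hcountinv : ∀ x : K, x ≠ 0 → R.count x⁻¹ = R.count x := by
    intro x hx
    rw [hR_def, count_roots, count_roots]
    exact rootMultiplicity_inv_of_reverse hf0 hiu hfrev hx
  have hRpow : ∀ x ∈ R, x ^ q ∈ R := by
    intro x hx
    rw [hR_def, mem_roots hf0] at hx ⊢
    exact isRoot_pow_card χ hx
  have hRinv : ∀ x ∈ R, x⁻¹ ∈ R := by
    intro x hx
    rw [← Multiset.count_pos, hcountinv x (hRnz x hx), Multiset.count_pos]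
    exact hx
  set S0 : Finset K := R.toFinset.filter (fun x => x ≠ x⁻¹) with hS0_def
  have hS0R : S0 ⊆ R.toFinset := Finset.filter_subset _ _
  have hinjq : Function.Injective (fun x : K => x ^ q) := pow_card_injective (F := F)
  have hcl : Closed q S0 := by
    refine ⟨?_, ?_, ?_, ?_⟩
    · intro x hx
      obtain ⟨hxR, hne⟩ := Finset.mem_filter.1 hx
      refine Finset.mem_filter.2
        ⟨Multiset.mem_toFinset.2 (hRpow x (Multiset.mem_toFinset.1 hxR)), ?_⟩
      intro h
      rw [← inv_pow] at h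
      exact hne (hinjq h)
    · intro x hx
      obtain ⟨hxR, hne⟩ := Finset.mem_filter.1 hx
      refine Finset.mem_filter.2
        ⟨Multiset.mem_toFinset.2 (hRinv x (Multiset.mem_toFinset.1 hxR)), ?_⟩
      rw [inv_inv]
      exact hne.symm
    · intro x hx
      exact (Finset.mem_filter.1 hx).2
    · intro x hx
      exact hRnz x (Multiset.mem_toFinset.1 (Finset.mem_filter.1 hx).1)
  obtain ⟨N, hN1, hNall, hNle, hSeven, hNeven⟩ := orbit_bound q hq hinjq S0 hcl
  have hout : ∀ x ∈ R, x ∉ S0 → x = 1 ∨ x = -1 := by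
    intro x hx hxS
    have h1 : x = x⁻¹ := by
      by_contra hne
      exact hxS (Finset.mem_filter.2 ⟨Multiset.mem_toFinset.2 hx, hne⟩)
    have h2 : x * x = 1 := by
      nth_rw 2 [h1]
      exact mul_inv_cancel₀ (hRnz x hx)
    exact mul_self_eq_one_iff.1 h2
  have hScard : S0.card ≤ n := by
    rw [← hRcard]
    exact (Finset.card_le_card hS0R).trans (Multiset.toFinset_card_le R)
  set a := (n - S0.card) / 2 with ha_def
  have hcount : ∀ x : K, R.count x ≤ q ^ a := by
    intro x
    by_cases hxR : x ∈ R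
    · by_cases hxS : x ∈ S0
      · have hne : x ≠ x⁻¹ := (Finset.mem_filter.1 hxS).2
        have h1 := count_bound_pair R S0 hS0R hxS (hcl.inv x hxS) hne
        rw [hcountinv x (hRnz x hxR), hRcard] at h1
        have h2 : R.count x - 1 ≤ a := by rw [ha_def]; omega
        calc R.count x ≤ 2 ^ (R.count x - 1) := le_two_pow_pred _
          _ ≤ q ^ (R.count x - 1) := Nat.pow_le_pow_left hq _
          _ ≤ q ^ a := Nat.pow_le_pow_right hq0 h2
      · have h1 := count_bound_out R S0 hS0R hxR hxS
        rw [hRcard] at h1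
        rcases Nat.even_or_odd q with hqe | hqo
        · have hne : Even n := by
            rcases hn with h | ⟨h, _⟩
            · exact h
            · exact absurd hqe (Nat.not_even_iff_odd.2 h)
          obtain ⟨k1, hk1⟩ := hne
          obtain ⟨k2, hk2⟩ := hSeven
          have h2 : R.count x ≤ 2 * a := by rw [ha_def]; omega
          calc R.count x ≤ 2 * a := h2
            _ ≤ 2 ^ a := two_mul_le_two_pow a
            _ ≤ q ^ a := Nat.pow_le_pow_left hq _
        · have hq3 : 3 ≤ q := by obtain ⟨k, hk⟩ := hqo; omega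
          have h2 : R.count x ≤ 2 * a + 1 := by rw [ha_def]; omega
          calc R.count x ≤ 2 * a + 1 := h2
            _ ≤ 3 ^ a := two_mul_add_one_le_three_pow a
            _ ≤ q ^ a := Nat.pow_le_pow_left hq3 _
    · rw [Multiset.count_eq_zero_of_notMem hxR]
      exact Nat.zero_le _
  by_cases hgen : ∀ x ∈ R, x ^ N = 1
  · refine ⟨N * q ^ a, 1, Nat.mul_pos hN1 (pow_pos hq0 _), Or.inl rfl, ?_, ?_⟩
    · calc N * q ^ a ≤ Bq q (S0.card / 2) * q ^ a := Nat.mul_le_mul_right _ hNle
        _ = q ^ a * Bq q (S0.card / 2) := mul_comm _ _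
        _ ≤ Bq q (S0.card / 2 + a) := pow_mul_Bq_le q a _
        _ ≤ Bq q (n / 2) := Bq_mono q (by obtain ⟨k2, hk2⟩ := hSeven; rw [ha_def]; omega)
    · exact finish χ hm K N hN1 1 (Or.inl rfl) a
        (by intro x hx; rw [map_one]; exact hgen x hx) hcount
  · push Not at hgen
    obtain ⟨x, hxR, hxN⟩ := hgen
    have hxS : x ∉ S0 := fun h => hxN (hNall x h)
    have hx1 : x = -1 := by
      rcases hout x hxR hxS with rfl | rfl
      · exact absurd (one_pow N) hxN
      · rfl
    subst hx1
    have hqodd : Odd q := by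
      rcases Nat.even_or_odd q with hqe | hqo
      · exfalso
        have h1 : (-1 : F) = 1 := neg_one_eq_one_of_even_card hqe
        have h2 : (-1 : K) = 1 := by
          have := congrArg (algebraMap F K) h1
          simpa using this
        rw [h2, one_pow] at hxN
        exact hxN rfl
      · exact hqo
    have hNodd : Odd N := by
      rcases Nat.even_or_odd N with hNe | hNo
      · exact absurd (Even.neg_one_pow hNe) hxN
      · exact hNo
    have hS0 : S0 = ∅ := by
      by_contra hne
      have := hNeven hqodd (Finset.nonempty_iff_ne_empty.2 hne)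
      exact (Nat.not_even_iff_odd.2 hNodd) this
    have hall : ∀ y ∈ R, y = 1 ∨ y = -1 := fun y hy =>
      hout y hy (by rw [hS0]; exact Finset.notMem_empty y)
    have ha' : a = n / 2 := by rw [ha_def, hS0]; simp
    have hq3 : 3 ≤ q := by obtain ⟨k, hk⟩ := hqodd; omega
    by_cases h1R : (1 : K) ∈ R
    · -- both `1` and `-1` occur
      have hne1 : (1 : K) ≠ -1 := by
        intro h
        apply hxN
        rw [← h, one_pow]
      have hn2 : 2 ≤ n := by
        have := count_bound_two R h1R hxR hne1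
        have h3 : 1 ≤ R.count 1 := Multiset.one_le_count_iff_mem.2 h1R
        omega
      have hnn : (Even n ∧ 2 ≤ n) ∨ 7 ≤ n := by
        rcases hn with h | ⟨_, h⟩
        · exact Or.inl ⟨h, hn2⟩
        · exact Or.inr h
      have hcount2 : ∀ y : K, R.count y ≤ q ^ (n / 2 - 1) := by
        intro y
        by_cases hyR : y ∈ R
        · have h1 : R.count y + 1 ≤ n := by
            rw [← hRcard]
            rcases hall y hyR with rfl | rfl
            · exact count_bound_two R h1R hxR hne1
            · exact count_bound_two R hxR h1R hne1.symm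
          calc R.count y ≤ n - 1 := by omega
            _ ≤ 3 ^ (n / 2 - 1) := pred_le_three_pow n hnn
            _ ≤ q ^ (n / 2 - 1) := Nat.pow_le_pow_left hq3 _
        · rw [Multiset.count_eq_zero_of_notMem hyR]
          exact Nat.zero_le _
      refine ⟨2 * q ^ (n / 2 - 1), 1, Nat.mul_pos (by norm_num) (pow_pos hq0 _), Or.inl rfl,
        ?_, ?_⟩
      · have hm1 : 1 ≤ n / 2 := by omega
        calc 2 * q ^ (n / 2 - 1) ≤ q * q ^ (n / 2 - 1) := Nat.mul_le_mul_right _ hq
          _ = q ^ (n / 2) := by rw [← pow_succ']; congr 1; omega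
          _ ≤ Bq q (n / 2) := pow_le_Bq q _
      · refine finish χ hm K 2 (by norm_num) 1 (Or.inl rfl) (n / 2 - 1) ?_ hcount2
        intro y hy
        rw [map_one]
        rcases hall y hy with rfl | rfl
        · exact one_pow 2
        · norm_num
    · -- all roots are `-1`
      refine ⟨1 * q ^ a, -1, Nat.mul_pos (by norm_num) (pow_pos hq0 _), Or.inr rfl, ?_, ?_⟩
      · rw [one_mul, ha']
        exact pow_le_Bq q _
      · refine finish χ hm K 1 le_rfl (-1) (Or.inr ⟨rfl, hqodd⟩) a ?_ hcount
        intro y hy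
        rw [pow_one, map_neg, map_one]
        rcases hall y hy with rfl | rfl
        · exact absurd hy h1R
        · rfl

/-- the core bound, at the level of polynomials -/
theorem poly_core (χ : F[X]) (hm : χ.Monic) (u : F) (hu : u ≠ 0) (hrev : χ.reverse = C u * χ)
    (hn : Even χ.natDegree ∨ (Odd (Fintype.card F) ∧ 7 ≤ χ.natDegree)) :
    ∃ (k : ℕ) (ε : F), 0 < k ∧ (ε = 1 ∨ ε = -1) ∧
      k ≤ Bq (Fintype.card F) (χ.natDegree / 2) ∧ χ ∣ X ^ k - C ε :=
  poly_core_aux (AlgebraicClosure F) χ hm u hu hrev hn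

end Cfsg.Agent.Lib.Helper5.MeoS
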