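import Mathlib
import Cfsg.Agent.Lib.Helper5.MeoS.Core

/-!
# The element-order bound for matrices preserving a nondegenerate form (helper5)
-/

set_option autoImplicit false

namespace Cfsg.Agent.Lib.Helper5.MeoS

open Polynomial

variable {F : Type*} [Field F]

theorem charpoly_inv_eq_of_form {ι : Type*} [Fintype ι] [DecidableEq ι] (M B : Matrix ι ι F)
    (hB : IsUnit B.det) (h : M.transpose * B * M = B) :
    IsUnit M.det ∧ M⁻¹.charpoly = M.charpoly := by
  have hdet : IsUnit M.det := by
    have h0 := congrArg Matrix.det h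
    rw [Matrix.det_mul, Matrix.det_mul, Matrix.det_transpose] at h0
    have hB0 : B.det ≠ 0 := hB.ne_zero
    have h1 : M.det * M.det = 1 := by
      have h2 : B.det * (M.det * M.det) = B.det * 1 := by
        rw [mul_one]
        linear_combination h0
      exact mul_left_cancel₀ hB0 h2
    exact IsUnit.of_mul_eq_one _ h1
  refine ⟨hdet, ?_⟩
  have hinv : M⁻¹ = B⁻¹ * M.transpose * B := by
    apply Matrix.inv_eq_left_inv
    rw [Matrix.mul_assoc, Matrix.mul_assoc, ← Matrix.mul_assoc M.transpose, h,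
      Matrix.nonsing_inv_mul _ hB]
  rw [hinv, Matrix.charpoly_mul_comm, ← Matrix.mul_assoc, Matrix.mul_nonsing_inv _ hB,
    Matrix.one_mul, Matrix.charpoly_transpose]

variable [Fintype F]

/-- an invertible matrix whose characteristic polynomial agrees with that of its inverse has a
small power equal to `±1` -/
theorem matrix_core {ι : Type*} [Fintype ι] [DecidableEq ι] (M : Matrix ι ι F)
    (hM : IsUnit M.det) (hinv : M⁻¹.charpoly = M.charpoly)
    (hn : Even (Fintype.card ι) ∨ (Odd (Fintype.card F) ∧ 7 ≤ Fintype.card ι)) :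
    ∃ (k : ℕ) (ε : F), 0 < k ∧ (ε = 1 ∨ ε = -1) ∧
      k ≤ Bq (Fintype.card F) (Fintype.card ι / 2) ∧ M ^ k = ε • (1 : Matrix ι ι F) := by
  have hdeg : M.charpoly.natDegree = Fintype.card ι := Matrix.charpoly_natDegree_eq_dim M
  have hd0 : M.det ≠ 0 := hM.ne_zero
  have hMu : IsUnit M := (Matrix.isUnit_iff_isUnit_det M).2 hM
  have hrev : M.charpoly.reverse = C ((-1) ^ Fintype.card ι * M.det) * M.charpoly := by
    have h1 := Matrix.charpoly_inv M hMu
    rw [hinv, ← Matrix.reverse_charpoly, Ring.inverse_eq_inv'] at h1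
    have h2 : (C ((-1) ^ Fintype.card ι * M.det) : F[X]) =
        (-1) ^ Fintype.card ι * C M.det := by
      rw [C_mul, C_pow, C_neg, C_1]
    rw [h2]
    nth_rw 2 [h1]
    have h3 : ((-1 : F[X]) ^ Fintype.card ι) * ((-1) ^ Fintype.card ι) = 1 := by
      rw [← mul_pow]; norm_num
    have h4 : (C M.det : F[X]) * C (M.det)⁻¹ = 1 := by
      rw [← C_mul, mul_inv_cancel₀ hd0, C_1]
    calc M.charpoly.reverse = (((-1 : F[X]) ^ Fintype.card ι) * ((-1) ^ Fintype.card ι)) *
          ((C M.det : F[X]) * C (M.det)⁻¹) * M.charpoly.reverse := by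
            rw [h3, h4, one_mul, one_mul]
      _ = _ := by ring
  obtain ⟨k, ε, hk, hε, hle, hdvd⟩ := poly_core M.charpoly (Matrix.charpoly_monic M)
    ((-1) ^ Fintype.card ι * M.det) (mul_ne_zero (pow_ne_zero _ (by norm_num)) hd0) hrev
    (by rw [hdeg]; exact hn)
  refine ⟨k, ε, hk, hε, by rw [hdeg] at hle; exact hle, ?_⟩
  obtain ⟨g, hg⟩ := hdvd
  have h5 := congrArg (aeval M) hg
  rw [map_mul, Matrix.aeval_self_charpoly, zero_mul, map_sub, map_pow, aeval_X, aeval_C,
    sub_eq_zero] at h5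
  rw [h5, Algebra.algebraMap_eq_smul_one]

end Cfsg.Agent.Lib.Helper5.MeoS
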