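import Mathlib
import Cfsg.Prelude.Def_Classical
import Cfsg.Agent.Lib.Helper5.MeoS.Mat

/-!
# The element-order bound for `PΩ(Q)` (helper5)

`Q` a function on `F^ι` whose polar form has an invertible Gram matrix.
-/

set_option autoImplicit false

namespace Cfsg.Agent.Lib.Helper5.MeoS

open Matrix

variable {F : Type*} [Field F]

theorem form_of_polar {ι : Type*} [Fintype ι] [DecidableEq ι] (M Bm : Matrix ι ι F)
    (h : ∀ u v : ι → F, (M *ᵥ u) ⬝ᵥ (Bm *ᵥ (M *ᵥ v)) = u ⬝ᵥ (Bm *ᵥ v)) :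
    M.transpose * Bm * M = Bm := by
  have key : ∀ u v : ι → F, u ⬝ᵥ ((M.transpose * Bm * M) *ᵥ v) = u ⬝ᵥ (Bm *ᵥ v) := by
    intro u v
    rw [← h u v, Matrix.mulVec_mulVec, Matrix.dotProduct_mulVec, Matrix.dotProduct_mulVec,
      ← Matrix.vecMul_transpose M u, Matrix.vecMul_vecMul, Matrix.mul_assoc]
  ext i j
  have := key (Pi.single i 1) (Pi.single j 1)
  simpa using this

variable [Fintype F]

theorem pomega_bound {ι : Type} [Fintype ι] [DecidableEq ι] (Q : (ι → F) → F)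
    (Bm : Matrix ι ι F) (hB : IsUnit Bm.det)
    (hpolar : ∀ u v : ι → F, Q (u + v) - Q u - Q v = u ⬝ᵥ (Bm *ᵥ v))
    (hn : Even (Fintype.card ι) ∨ (Odd (Fintype.card F) ∧ 7 ≤ Fintype.card ι))
    (g : Cfsg.POmega F Q) :
    (Fintype.card F - 1) * orderOf g ≤ Fintype.card F ^ (Fintype.card ι / 2 + 1) := by
  classical
  obtain ⟨A, rfl⟩ := QuotientGroup.mk_surjective g
  set M : Matrix ι ι F :=
    (((A : Cfsg.isometryGroup F Q) : Matrix.GeneralLinearGroup ι F) : Matrix ι ι F) with hM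
  have hiso : ∀ u : ι → F, Q (M *ᵥ u) = Q u := by
    intro u
    have := (A : Cfsg.isometryGroup F Q).2
    exact this u u
  have hform : ∀ u v : ι → F, (M *ᵥ u) ⬝ᵥ (Bm *ᵥ (M *ᵥ v)) = u ⬝ᵥ (Bm *ᵥ v) := by
    intro u v
    rw [← hpolar, ← hpolar, ← Matrix.mulVec_add, hiso, hiso, hiso]
  obtain ⟨hdet, hcp⟩ := charpoly_inv_eq_of_form M Bm hB (form_of_polar M Bm hform)
  obtain ⟨k, ε, hk, hε, hle, hpow⟩ := matrix_core M hdet hcp hn
  have hcen : A ^ k ∈ Subgroup.center (Cfsg.Omega F Q) := by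
    rw [Subgroup.mem_center_iff]
    intro B
    apply Subtype.ext
    apply Subtype.ext
    apply Units.ext
    simp only [Subgroup.coe_mul, Units.val_mul, SubgroupClass.coe_pow, Units.val_pow_eq_pow_val]
    rw [← hM, hpow, Matrix.mul_smul, Matrix.smul_mul, Matrix.mul_one, Matrix.one_mul]
  have h1 : (QuotientGroup.mk A : Cfsg.POmega F Q) ^ k = 1 := by
    rw [← QuotientGroup.mk_pow]
    exact (QuotientGroup.eq_one_iff _).2 hcen
  have h2 : orderOf (QuotientGroup.mk A : Cfsg.POmega F Q) ≤ k :=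
    Nat.le_of_dvd hk (orderOf_dvd_of_pow_eq_one h1)
  have hq : 1 ≤ Fintype.card F := Fintype.card_pos
  have h3 := Bq_mul (Fintype.card F) (Fintype.card ι / 2) hq
  calc (Fintype.card F - 1) * orderOf (QuotientGroup.mk A : Cfsg.POmega F Q)
      ≤ (Fintype.card F - 1) * Bq (Fintype.card F) (Fintype.card ι / 2) :=
        Nat.mul_le_mul_left _ (h2.trans hle)
    _ ≤ Fintype.card F ^ (Fintype.card ι / 2 + 1) := by omega

end Cfsg.Agent.Lib.Helper5.MeoS
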