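import Mathlib
import Cfsg.Prelude.Def_Classical
import Cfsg.Agent.Lib.Helper5.MeoS.Orth

/-!
# Gram matrices of the three standard quadratic forms (helper5)
-/

set_option autoImplicit false

namespace Cfsg.Agent.Lib.Helper5.MeoS

open Matrix

variable {F : Type*} [Field F]

/-- the hyperbolic Gram matrix -/
def Hyp (m : ℕ) (F : Type*) [Field F] : Matrix (Fin m ⊕ Fin m) (Fin m ⊕ Fin m) F :=
  Matrix.fromBlocks 0 1 1 0

theorem Hyp_mul_self (m : ℕ) : Hyp m F * Hyp m F = 1 := by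
  unfold Hyp
  rw [Matrix.fromBlocks_multiply]
  simp [Matrix.fromBlocks_one]

theorem isUnit_det_Hyp (m : ℕ) : IsUnit (Hyp m F).det :=
  Matrix.isUnit_det_of_right_inverse (Hyp_mul_self m)

theorem Hyp_dot (m : ℕ) (u v : Fin m ⊕ Fin m → F) :
    u ⬝ᵥ (Hyp m F *ᵥ v) = ∑ i : Fin m, (u (.inl i) * v (.inr i) + u (.inr i) * v (.inl i)) := by
  unfold Hyp
  rw [Matrix.fromBlocks_mulVec]
  simp only [dotProduct, Fintype.sum_sum_type, Sum.elim_inl, Sum.elim_inr, Matrix.zero_mulVec,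
    Matrix.one_mulVec, zero_add, add_zero, Function.comp_apply, Finset.sum_add_distrib]

theorem polar_plus (m : ℕ) (u v : Fin m ⊕ Fin m → F) :
    Cfsg.quadFormPlus m F (u + v) - Cfsg.quadFormPlus m F u - Cfsg.quadFormPlus m F v =
      u ⬝ᵥ (Hyp m F *ᵥ v) := by
  rw [Hyp_dot]
  unfold Cfsg.quadFormPlus
  rw [← Finset.sum_sub_distrib, ← Finset.sum_sub_distrib]
  apply Finset.sum_congr rfl
  intro i _
  simp only [Pi.add_apply]
  ring

/-- Gram matrix of the odd-dimensional form -/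
def GramOdd (m : ℕ) (F : Type*) [Field F] :
    Matrix (Unit ⊕ (Fin m ⊕ Fin m)) (Unit ⊕ (Fin m ⊕ Fin m)) F :=
  Matrix.fromBlocks ((2 : F) • (1 : Matrix Unit Unit F)) 0 0 (Hyp m F)

theorem GramOdd_dot (m : ℕ) (u v : Unit ⊕ (Fin m ⊕ Fin m) → F) :
    u ⬝ᵥ (GramOdd m F *ᵥ v) = 2 * (u (.inl ()) * v (.inl ())) +
      ∑ i : Fin m, (u (.inr (.inl i)) * v (.inr (.inr i)) + u (.inr (.inr i)) * v (.inr (.inl i))) := by
  have h := Hyp_dot m (u ∘ Sum.inr) (v ∘ Sum.inr)
  simp only [Function.comp_apply] at h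
  rw [← h]
  unfold GramOdd
  rw [Matrix.fromBlocks_mulVec, dotProduct, Fintype.sum_sum_type]
  simp only [Sum.elim_inl, Sum.elim_inr, Matrix.zero_mulVec, add_zero, zero_add,
    Finset.univ_unique, Finset.sum_singleton, Matrix.smul_mulVec, Matrix.one_mulVec,
    Pi.smul_apply, Function.comp_apply, smul_eq_mul, PUnit.default_eq_unit]
  congr 1
  ring

theorem isUnit_det_GramOdd (m : ℕ) (h2 : (2 : F) ≠ 0) : IsUnit (GramOdd m F).det := by
  unfold GramOdd
  rw [Matrix.det_fromBlocks_zero₂₁]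
  refine IsUnit.mul ?_ (isUnit_det_Hyp m)
  rw [Matrix.det_unique]
  simpa using h2

theorem polar_odd (m : ℕ) (u v : Unit ⊕ (Fin m ⊕ Fin m) → F) :
    Cfsg.quadFormOdd m F (u + v) - Cfsg.quadFormOdd m F u - Cfsg.quadFormOdd m F v =
      u ⬝ᵥ (GramOdd m F *ᵥ v) := by
  rw [GramOdd_dot]
  unfold Cfsg.quadFormOdd
  have e : ∀ (A B C a b c : F), (A + a) - (B + b) - (C + c) = (A - B - C) + (a - b - c) := by
    intros; ring
  rw [e, ← Finset.sum_sub_distrib, ← Finset.sum_sub_distrib]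
  congr 1
  · simp only [Pi.add_apply]; ring
  · apply Finset.sum_congr rfl
    intro i _
    simp only [Pi.add_apply]
    ring

/-- Gram matrix of the minus-type form -/
def GramMinus (m : ℕ) (F : Type*) [Field F] (a b : F) :
    Matrix ((Fin m ⊕ Fin m) ⊕ Fin 2) ((Fin m ⊕ Fin m) ⊕ Fin 2) F :=
  Matrix.fromBlocks (Hyp m F) 0 0 !![2, a; a, 2 * b]

theorem GramMinus_dot (m : ℕ) (a b : F) (u v : (Fin m ⊕ Fin m) ⊕ Fin 2 → F) :
    u ⬝ᵥ (GramMinus m F a b *ᵥ v) =
      ∑ i : Fin m, (u (.inl (.inl i)) * v (.inl (.inr i)) + u (.inl (.inr i)) * v (.inl (.inl i))) +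
      (2 * u (.inr 0) * v (.inr 0) + a * u (.inr 0) * v (.inr 1) + a * u (.inr 1) * v (.inr 0) +
        2 * b * u (.inr 1) * v (.inr 1)) := by
  have h := Hyp_dot m (u ∘ Sum.inl) (v ∘ Sum.inl)
  simp only [Function.comp_apply] at h
  rw [← h]
  unfold GramMinus
  rw [Matrix.fromBlocks_mulVec, dotProduct, Fintype.sum_sum_type]
  simp only [Sum.elim_inl, Sum.elim_inr, Matrix.zero_mulVec, add_zero, zero_add,
    Fin.sum_univ_two, Matrix.mulVec, dotProduct, Matrix.of_apply, Matrix.cons_val_zero,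
    Matrix.cons_val_one, Function.comp_apply, Matrix.cons_val', Matrix.cons_val_fin_one]
  congr 1
  ring

theorem isUnit_det_GramMinus (m : ℕ) (a b : F) (hd : 4 * b - a ^ 2 ≠ 0) :
    IsUnit (GramMinus m F a b).det := by
  unfold GramMinus
  rw [Matrix.det_fromBlocks_zero₂₁]
  refine IsUnit.mul (isUnit_det_Hyp m) ?_
  rw [Matrix.det_fin_two_of, isUnit_iff_ne_zero]
  intro h
  apply hd
  linear_combination h

theorem polar_minus (m : ℕ) (a b : F) (u v : (Fin m ⊕ Fin m) ⊕ Fin 2 → F) :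
    Cfsg.quadFormMinus m F a b (u + v) - Cfsg.quadFormMinus m F a b u -
        Cfsg.quadFormMinus m F a b v = u ⬝ᵥ (GramMinus m F a b *ᵥ v) := by
  rw [GramMinus_dot]
  unfold Cfsg.quadFormMinus
  have e : ∀ (A B C a b c : F), (A + a) - (B + b) - (C + c) = (A - B - C) + (a - b - c) := by
    intros; ring
  rw [e, ← Finset.sum_sub_distrib, ← Finset.sum_sub_distrib]
  congr 1
  · apply Finset.sum_congr rfl
    intro i _
    simp only [Pi.add_apply]
    ring
  · simp only [Pi.add_apply]; ring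

theorem disc_ne_zero [Fintype F] (a b : F)
    (h : ∀ z₁ z₂ : F, z₁ ^ 2 + a * z₁ * z₂ + b * z₂ ^ 2 = 0 → z₁ = 0 ∧ z₂ = 0) :
    4 * b - a ^ 2 ≠ 0 := by
  intro hd
  by_cases h2 : (2 : F) = 0
  · have hchar : ringChar F = 2 := CharP.ringChar_of_prime_eq_zero Nat.prime_two (by exact_mod_cast h2)
    have h4 : (4 : F) = 0 := by
      have : (4 : F) = 2 * 2 := by norm_num
      rw [this, h2, mul_zero]
    have ha : a = 0 := by
      rw [h4, zero_mul, zero_sub, neg_eq_zero] at hd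
      exact pow_eq_zero_iff (by norm_num) |>.1 hd
    obtain ⟨c, hc⟩ := FiniteField.isSquare_of_char_two hchar b
    have := (h c 1 (by rw [ha, hc]; linear_combination (c * c) * h2)).2
    exact one_ne_zero this
  · have := (h (-a / 2) 1 (by field_simp; linear_combination hd)).2
    exact one_ne_zero this

theorem two_ne_zero_of_odd_card [Fintype F] (h : Odd (Fintype.card F)) : (2 : F) ≠ 0 := by
  intro h2
  have hchar : ringChar F = 2 := CharP.ringChar_of_prime_eq_zero Nat.prime_two (by exact_mod_cast h2)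
  have := FiniteField.even_card_of_char_two hchar
  obtain ⟨k, hk⟩ := h
  omega

end Cfsg.Agent.Lib.Helper5.MeoS
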